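import Groth.Agent.H22.BlowUpAmple
import Groth.Agent.Lib.Ideal.BlowUp

/-!
# The standard affine opens of a blow-up; membership in a direct image ideal
-/

set_option autoImplicit false
set_option maxHeartbeats 1000000

noncomputable section

universe u

open CategoryTheory CategoryTheory.Limits AlgebraicGeometry TopologicalSpace

namespace Groth.Agent.H22.BlowUpComp

open Groth.Agent.Lib Groth.Agent.Lib.BlowUpExists

variable {X X' : Scheme.{u}} {I : X.IdealSheafData} {b : X' ⟶ X}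

/-- A blow-up is isomorphic to the constructed one. -/
theorem exists_iso (hb : BlowUp.IsBlowUp b I) :
    ∃ k : X' ⟶ bl I, IsIso k ∧ k ≫ blProj I = b := by
  obtain ⟨h, hh, -⟩ := hb.2 (bl I) (blProj I) (localData I).Q_proj
  obtain ⟨k, hk⟩ := (localData I).exists_hom b hb.1
  have e₁ : k ≫ h = 𝟙 X' := (hb.2 X' b hb.1).unique (by rw [Category.assoc, hh, hk]) (by simp)
  have e₂ : h ≫ k = 𝟙 (bl I) := (localData I).hom_ext (blProj I) (localData I).Q_proj
    (by rw [Category.assoc, hk, hh]) (by simp)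
  exact ⟨k, ⟨h, e₁, e₂⟩, hk⟩

/-- An element of a ring restricting into an ideal on a basic open is multiplied into it by a power. -/
theorem exists_pow_mul_mem {W : X.Opens} (hW : IsAffineOpen W) (c : Γ(X, W))
    {K : Ideal Γ(X, W)} {t : Γ(X, W)}
    (h : X.presheaf.map (homOfLE (X.basicOpen_le c)).op t ∈
      Ideal.map (X.presheaf.map (homOfLE (X.basicOpen_le c)).op).hom K) :
    ∃ n, c ^ n * t ∈ K := by
  haveI := hW.isLocalization_basicOpen c
  obtain ⟨⟨⟨s, hs⟩, ⟨_, m, rfl⟩⟩, hsm⟩ := (IsLocalization.mem_map_algebraMap_iff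
    (Submonoid.powers c) Γ(X, X.basicOpen c)).1 h
  have h1 : algebraMap Γ(X, W) Γ(X, X.basicOpen c) (t * c ^ m) = algebraMap _ _ s := by
    rw [map_mul]; exact hsm
  obtain ⟨⟨_, k, rfl⟩, hk⟩ := (IsLocalization.eq_iff_exists (Submonoid.powers c) _).1 h1
  refine ⟨k + m, ?_⟩
  rw [show c ^ (k + m) * t = c ^ k * (t * c ^ m) by ring]
  simp only at hk
  rw [hk]
  exact K.mul_mem_left _ hs

/-- The affine open of a blow-up where a given element of the centre generates. -/
theorem exists_genOpen (hb : BlowUp.IsBlowUp b I) (P : X.affineOpens) (a : Γ(X, P.1))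
    (ha : a ∈ I.ideal P) :
    ∃ (W : X'.affineOpens) (e : W.1 ≤ b ⁻¹ᵁ P.1),
      (I.comap b).ideal W = Ideal.span {b.appLE P.1 W.1 e a} ∧
      ∀ y, GenAt I b P a y → y ∈ W.1 := by
  obtain ⟨k, hk, hkb⟩ := exists_iso hb
  let i : Idx I := ⟨P, a, ha⟩
  haveI : IsAffine (Scheme.Hom.opensRange (incl i) : Scheme.{u}) := isAffineOpen_opensRange _
  let W : X'.affineOpens := ⟨k ⁻¹ᵁ (incl i).opensRange, (isAffineOpen_opensRange (incl i)).preimage k⟩
  have hmem : ∀ y, GenAt I b P a y ↔ y ∈ W.1 := by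
    intro y
    constructor
    · intro h
      refine (BlowUpAmple.genAt_blProj_iff i (k y)).1 ?_
      have h' := genAt_comp (inv k) (y := k y) (show GenAt I b P a (inv k (k y)) by
        rwa [← Scheme.Hom.comp_apply, IsIso.hom_inv_id])
      rwa [← hkb, IsIso.inv_hom_id_assoc] at h'
    · intro h
      have := genAt_comp k ((BlowUpAmple.genAt_blProj_iff i (k y)).2 h)
      rwa [hkb] at this
  have e : W.1 ≤ b ⁻¹ᵁ P.1 := fun y hy => by
    obtain ⟨W', e', hy', -⟩ := (hmem y).2 hy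
    exact e' hy'
  refine ⟨W, e, le_antisymm (fun t ht => ?_) ?_, fun y hy => (hmem y).1 hy⟩
  · let C : Ideal Γ(X', W.1) := (Ideal.span {b.appLE P.1 W.1 e a}).colon {t}
    suffices C = ⊤ by
      have h1 : (1 : Γ(X', W.1)) ∈ C := this ▸ trivial
      rw [Submodule.mem_colon_singleton, one_smul] at h1
      exact h1
    by_contra hne
    obtain ⟨m, hm, hle⟩ := Ideal.exists_le_maximal _ hne
    let p : PrimeSpectrum Γ(X', W.1) := ⟨m, hm.isPrime⟩
    have hp : W.2.fromSpec p ∈ W.1 := by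
      rw [← SetLike.mem_coe, ← W.2.range_fromSpec]; exact Set.mem_range_self p
    obtain ⟨W', e', hyW', hW'⟩ := (hmem _).2 hp
    obtain ⟨c, hcle, hyc⟩ := W.2.exists_basicOpen_le (V := W'.1) ⟨_, hyW'⟩ hp
    let D : X'.affineOpens := ⟨X'.basicOpen c, W.2.basicOpen c⟩
    have hD : D.1 ≤ W.1 := X'.basicOpen_le c
    have h1 : X'.presheaf.map (homOfLE hD).op t ∈ (I.comap b).ideal D := by
      rw [← (I.comap b).map_ideal (show D.1 ≤ W.1 from hD)]
      exact Ideal.mem_map_of_mem _ ht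
    rw [ideal_eq_span_of_genAt_le hcle e' hW', ← appLE_res b hD e, ← Set.image_singleton,
      ← Ideal.map_span] at h1
    obtain ⟨n, hn⟩ := exists_pow_mul_mem W.2 c h1
    have hcC : c ^ n ∈ C := by
      rw [Submodule.mem_colon_singleton, smul_eq_mul]; exact hn
    have hcm : c ∈ m := hm.isPrime.mem_of_pow_mem n (hle hcC)
    refine (Lib.Ideal.EffCartier.mem_basicOpen_iff_notMem_prime W.2 hp c).1 hyc ?_
    rw [show W.2.primeIdealOf ⟨_, hp⟩ = p from
      W.2.fromSpec.isOpenEmbedding.injective (W.2.fromSpec_primeIdealOf _)]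
    exact hcm
  · rw [Ideal.span_singleton_le_iff_mem, Lib.Ideal.Comap.ideal_comap b I P W e]
    exact Ideal.mem_map_of_mem _ ha

/-- A section lies in a direct image ideal as soon as it does so on an affine cover. -/
theorem mem_map_of_cover [QuasiCompact b] (K : X'.IdealSheafData) (P : X.affineOpens)
    (h : Γ(X, P.1))
    (hh : ∀ y ∈ b ⁻¹ᵁ P.1, ∃ (V : X'.affineOpens) (e : V.1 ≤ b ⁻¹ᵁ P.1), y ∈ V.1 ∧
      b.appLE P.1 V.1 e h ∈ K.ideal V) :
    h ∈ (K.map b).ideal P := by
  rw [Scheme.IdealSheafData.map, Scheme.Hom.ker_apply, RingHom.mem_ker]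
  refine TopCat.Presheaf.section_ext K.subscheme.sheaf _ _ 0 fun z hz => ?_
  change K.subscheme.presheaf.germ _ z hz _ = K.subscheme.presheaf.germ _ z hz 0
  rw [map_zero]
  obtain ⟨V, e, hzV, hmem⟩ := hh (K.subschemeι z) hz
  rw [← K.ker_subschemeι_app V, RingHom.mem_ker] at hmem
  have eV : K.subschemeι ⁻¹ᵁ V.1 ≤ (K.subschemeι ≫ b) ⁻¹ᵁ P.1 := fun w hw => e hw
  rw [← TopCat.Presheaf.germ_res_apply K.subscheme.presheaf (homOfLE eV) z hzV]
  have hcomp : (K.subschemeι ≫ b).app P.1 ≫ K.subscheme.presheaf.map (homOfLE eV).op =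
      b.appLE P.1 V.1 e ≫ K.subschemeι.app V.1 := by
    rw [Scheme.Hom.app_eq_appLE K.subschemeι, Scheme.Hom.appLE_comp_appLE]
    rfl
  have h0 := ConcreteCategory.congr_hom hcomp h
  simp only [CommRingCat.comp_apply] at h0
  exact (congrArg (K.subscheme.presheaf.germ (K.subschemeι ⁻¹ᵁ V.1) z hzV)
    (h0.trans hmem)).trans (map_zero _)

end Groth.Agent.H22.BlowUpComp
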