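import Groth.Agent.H22.BlowUpComp.Compose
import Groth.Agent.H22.BlowUpSeparate
import Groth.Agent.H22.StrictTransform.Result

/-!
# Extending finite type ideals from quasi-compact opens; dominating admissible blow-ups
-/

set_option autoImplicit false
set_option maxHeartbeats 1000000

noncomputable section

universe u

open CategoryTheory CategoryTheory.Limits AlgebraicGeometry TopologicalSpace

namespace Groth.Agent.H22.BlowUpComp

open Groth.Agent.Lib Groth.Agent.Lib.BlowUpExists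

variable {X V : Scheme.{u}}

theorem comap_map_eq (ι : V ⟶ X) [IsOpenImmersion ι] [QuasiCompact ι] (I : V.IdealSheafData) :
    (I.map ι).comap ι = I := by
  refine le_antisymm (Scheme.IdealSheafData.comap_map_le _ _) fun W g hg => ?_
  let P : X.affineOpens := ⟨ι ''ᵁ W.1, W.2.image_of_isOpenImmersion ι⟩
  have e : W.1 ≤ ι ⁻¹ᵁ P.1 := (ι.preimage_image_eq W.1).ge
  have hsurj : Function.Surjective (ι.appLE P.1 W.1 e) := by
    haveI := ι.isIso_app P.1 (ι.image_le_opensRange W.1)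
    have : IsIso (ι.appLE P.1 W.1 e) := by
      rw [Scheme.Hom.appLE, show (homOfLE e).op =
        (eqToHom (ι.preimage_image_eq W.1).symm).op from rfl]
      infer_instance
    exact (ConcreteCategory.bijective_of_isIso _).2
  obtain ⟨h, rfl⟩ := hsurj g
  rw [Lib.Ideal.Comap.ideal_comap ι _ P W e]
  refine Ideal.mem_map_of_mem _ (mem_map_of_cover I P h fun y hy => ⟨W, e, ?_, hg⟩)
  rw [ι.preimage_image_eq] at hy
  exact hy

/-- A finite type ideal on a quasi-compact open extends with support avoiding a given open. -/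
theorem exists_extend [CompactSpace X] [QuasiSeparatedSpace X] (ι : V ⟶ X) [IsOpenImmersion ι]
    [QuasiCompact ι] (U : X.Opens) (hU : IsCompact (U : Set X)) (I : V.IdealSheafData)
    (hI : Lim.IdealExt.IsFG I) (hd : ∀ v, ι v ∈ U → v ∉ I.support) :
    ∃ J : X.IdealSheafData, Lim.IdealExt.IsFG J ∧ (∀ x ∈ U, x ∉ J.support) ∧ J.comap ι = I := by
  classical
  haveI : CompactSpace V := QuasiCompact.compactSpace_of_compactSpace ι
  set K := I.map ι with hK
  have hKU : ∀ x ∈ U, x ∉ K.support := by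
    intro x hx hxK
    rw [← SetLike.mem_coe, hK, Scheme.IdealSheafData.support_map] at hxK
    obtain ⟨_, hy, v, hv, rfl⟩ := mem_closure_iff.1 hxK _ U.2 hx
    exact hd v hy hv
  obtain ⟨A, hAK, hA, hAd⟩ := BlowUpSeparate.exists_isFG_le_disjoint K U hU hKU
  have hpiece : ∀ W : V.affineOpens, ∃ L : X.IdealSheafData, L ≤ K ∧ Lim.IdealExt.IsFG L ∧
      I.ideal W ≤ (L.comap ι).ideal W := by
    intro W
    let P : X.affineOpens := ⟨ι ''ᵁ W.1, W.2.image_of_isOpenImmersion ι⟩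
    have e : W.1 ≤ ι ⁻¹ᵁ P.1 := (ι.preimage_image_eq W.1).ge
    have h1 : I.ideal W = Ideal.map (ι.appLE P.1 W.1 e).hom (K.ideal P) := by
      rw [← Lib.Ideal.Comap.ideal_comap ι K P W e, hK, comap_map_eq]
    obtain ⟨s, hs⟩ := hI W
    have hsurj : Function.Surjective (ι.appLE P.1 W.1 e) := by
      haveI := ι.isIso_app P.1 (ι.image_le_opensRange W.1)
      have : IsIso (ι.appLE P.1 W.1 e) := by
        rw [Scheme.Hom.appLE, show (homOfLE e).op =
          (eqToHom (ι.preimage_image_eq W.1).symm).op from rfl]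
        infer_instance
      exact (ConcreteCategory.bijective_of_isIso _).2
    have hlift : ∀ g : s, ∃ k ∈ K.ideal P, ι.appLE P.1 W.1 e k = g.1 := fun g => by
      obtain ⟨k, hk, he⟩ := (Ideal.mem_map_iff_of_surjective _ hsurj).1
        (h1.le (hs.le (Ideal.subset_span g.2)))
      exact ⟨k, hk, he⟩
    choose k hk hke using hlift
    obtain ⟨L, hLK, hL, hLk⟩ := Lim.IdealExt.exists_isFG_subset K P (Finset.univ.image k) (by
      intro c hc
      simp only [Finset.coe_image, Set.mem_image] at hc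
      obtain ⟨g, -, rfl⟩ := hc
      exact hk g)
    refine ⟨L, hLK, hL, ?_⟩
    rw [← hs, Ideal.span_le]
    intro g hg
    show g ∈ (L.comap ι).ideal W
    rw [show g = ι.appLE P.1 W.1 e (k ⟨g, hg⟩) from (hke ⟨g, hg⟩).symm,
      Lib.Ideal.Comap.ideal_comap ι L P W e]
    refine Ideal.mem_map_of_mem _ (hLk ?_)
    simp only [Finset.coe_image, Set.mem_image]
    exact ⟨⟨g, hg⟩, by simp, rfl⟩
  choose L hLK hL hLW using hpiece
  obtain ⟨F, hF⟩ := isCompact_univ.elim_finite_subcover (fun W : V.affineOpens => (W.1 : Set V))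
    (fun W => W.1.2) fun x _ => by
      obtain ⟨W, hW, hxW, -⟩ :=
        exists_isAffineOpen_mem_and_subset (show x ∈ (⊤ : V.Opens) from trivial)
      exact Set.mem_iUnion.2 ⟨⟨W, hW⟩, hxW⟩
  refine ⟨A ⊔ F.sup L, Lim.IdealExt.isFG_sup hA (Finset.sup_induction
    (p := Lim.IdealExt.IsFG) Lim.IdealExt.isFG_bot (fun _ h₁ _ h₂ => Lim.IdealExt.isFG_sup h₁ h₂)
    fun W _ => hL W), fun x hx h => ?_, le_antisymm ?_ ?_⟩
  · rw [← SetLike.mem_coe, Flat55.GenericStrataScheme.support_sup] at h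
    exact hAd x hx h.1
  · exact Scheme.IdealSheafData.le_map_iff_comap_le.1
      (sup_le hAK (Finset.sup_le fun W _ => hLK W))
  · refine Scheme.IdealSheafData.le_of_iSup_eq_top (fun W : F => W.1) ?_ fun W => ?_
    · refine top_le_iff.1 fun z _ => ?_
      obtain ⟨i, hi, hzi⟩ := Set.mem_iUnion₂.1 (hF (Set.mem_univ z))
      exact Opens.mem_iSup.2 ⟨⟨i, hi⟩, hzi⟩
    · exact (hLW W.1).trans (Scheme.IdealSheafData.comap_mono (f := ι)
        ((Finset.le_sup W.2).trans le_sup_right) _)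

/-- Blow-ups restrict to opens. -/
theorem isBlowUp_restrict {X' : Scheme.{u}} {c : X' ⟶ X} {J : X.IdealSheafData}
    (hc : BlowUp.IsBlowUp c J) (O : X.Opens) : BlowUp.IsBlowUp (c ∣_ O) (J.comap O.ι) := by
  have H := (isPullback_morphismRestrict c O)
  have h := Lib.Ideal.BlowUp.isBlowUp_flat_baseChange O.ι hc
  let e : ((c ⁻¹ᵁ O : X'.Opens) : Scheme.{u}) ≅ pullback O.ι c := H.isoPullback
  have he : e.hom ≫ pullback.fst O.ι c = c ∣_ O := H.isoPullback_hom_fst
  refine ⟨?_, fun Y g hg => ?_⟩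
  · rw [← he, Scheme.IdealSheafData.comap_comp]
    exact Lib.Ideal.EffCartier.isEffCartier_comap_of_flat _ h.1
  · obtain ⟨k, hk, hku⟩ := h.2 Y g hg
    refine ⟨k ≫ e.inv, ?_, fun k' hk' => ?_⟩
    · show (k ≫ e.inv) ≫ (c ∣_ O) = g
      rw [← he, Category.assoc, Iso.inv_hom_id_assoc, hk]
    · rw [Iso.eq_comp_inv]
      refine hku _ ?_
      show (k' ≫ e.hom) ≫ _ = g
      rw [Category.assoc, he]; exact hk'

/-- Admissible blow-ups are dominated by one whose factors are admissible blow-ups. -/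
theorem exists_dominating_family {n : ℕ} (U : X.Opens) (Xi : Fin n → Scheme.{u})
    (b : ∀ i, Xi i ⟶ X) (𝓘 : Fin n → X.IdealSheafData) (hb : ∀ i, BlowUp.IsBlowUp (b i) (𝓘 i))
    (ha : ∀ i, BlowUp.IsAdmissibleFor U (𝓘 i)) :
    ∃ (𝓙 : X.IdealSheafData) (X' : Scheme.{u}) (c : X' ⟶ X), BlowUp.IsBlowUp c 𝓙 ∧
      BlowUp.IsAdmissibleFor U 𝓙 ∧
      ∀ i, ∃ (g : X' ⟶ Xi i) (𝓚 : (Xi i).IdealSheafData), g ≫ b i = c ∧ BlowUp.IsBlowUp g 𝓚 ∧
        BlowUp.IsAdmissibleFor ((b i) ⁻¹ᵁ U) 𝓚 := by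
  classical
  have hfg : ∀ s : Finset (Fin n), BlowUp.IsAdmissibleFor U (∏ i ∈ s, 𝓘 i) := fun s => by
    refine Finset.prod_induction _ (BlowUp.IsAdmissibleFor U) (fun J K hJ hK => ?_) ?_ fun i _ => ha i
    · refine ⟨Flat55.GenericStrataScheme.isFG_mul hJ.1 hK.1, ?_⟩
      rw [Scheme.IdealSheafData.support_mul, Closeds.coe_sup]
      exact hJ.2.union_left hK.2
    · rw [Scheme.IdealSheafData.one_eq_top]
      refine ⟨isFG_top, ?_⟩
      rw [show ((⊤ : X.IdealSheafData).support : Set X) = ∅ by simp]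
      exact disjoint_bot_left
  refine ⟨∏ i, 𝓘 i, _, blProj _, BlowUpAmple.isBlowUp_blProj _, hfg _, fun i => ?_⟩
  let J := ∏ k ∈ Finset.univ.erase i, 𝓘 k
  let bJ := blProj (J.comap (b i))
  have hcomp : BlowUp.IsBlowUp (bJ ≫ b i) (∏ k, 𝓘 k) := by
    rw [← Finset.mul_prod_erase _ _ (Finset.mem_univ i)]
    exact Lib.Ideal.BlowUp.isBlowUp_comp_mul (hb i) (BlowUpAmple.isBlowUp_blProj _)
  obtain ⟨k, hk, hkb⟩ := exists_iso hcomp
  refine ⟨inv k ≫ bJ, J.comap (b i), ?_, ?_, ?_, ?_⟩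
  · rw [Category.assoc, IsIso.inv_comp_eq, hkb]
  · refine ⟨?_, fun Y g hg => ?_⟩
    · rw [Scheme.IdealSheafData.comap_comp]
      exact Lib.Ideal.EffCartier.isEffCartier_comap_of_flat _ (BlowUpAmple.isBlowUp_blProj _).1
    · obtain ⟨l, hl, hlu⟩ := (BlowUpAmple.isBlowUp_blProj (J.comap (b i))).2 Y g hg
      refine ⟨l ≫ k, ?_, fun l' hl' => ?_⟩
      · show (l ≫ k) ≫ inv k ≫ bJ = g
        rw [Category.assoc, IsIso.hom_inv_id_assoc, hl]
      · rw [← IsIso.comp_inv_eq]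
        refine hlu _ ?_
        show (l' ≫ inv k) ≫ _ = g
        rw [Category.assoc]; exact hl'
  · exact StrictTransform.isFG_comap' _ (hfg _).1
  · rw [Scheme.IdealSheafData.support_comap]
    exact Set.disjoint_left.2 fun x hx hxU => Set.disjoint_left.1 (hfg _).2 hx hxU

end Groth.Agent.H22.BlowUpComp
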