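import Groth.Agent.H22.BlowUpComp.Cover
import Groth.Agent.H22.StrictTransform.Chart

/-!
# A composite of blow-ups of finite type is a blow-up
-/

set_option autoImplicit false
set_option maxHeartbeats 1000000

noncomputable section

universe u

open CategoryTheory CategoryTheory.Limits AlgebraicGeometry TopologicalSpace

namespace Groth.Agent.H22.BlowUpComp

open Groth.Agent.Lib Groth.Agent.Lib.BlowUpExists

variable {X X' : Scheme.{u}}

theorem mul_mono {I I' J J' : X.IdealSheafData} (h : I ≤ I') (h' : J ≤ J') : I * J ≤ I' * J' :=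
  fun V => by
    simp only [Scheme.IdealSheafData.ideal_mul, Pi.mul_apply]
    exact Ideal.mul_mono (h V) (h' V)

theorem isFG_top : Lim.IdealExt.IsFG (⊤ : X.IdealSheafData) := fun V => by
  simpa using Ideal.fg_top Γ(X, V.1)

/-- Off the centre the pull-back of an element of the centre which is invertible generates. -/
theorem genAt_of_mem_basicOpen {I : X.IdealSheafData} {b : X' ⟶ X} (P : X.affineOpens)
    {a : Γ(X, P.1)} (ha : a ∈ I.ideal P) {y : X'} (hy : b y ∈ X.basicOpen a) :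
    GenAt I b P a y := by
  obtain ⟨W, hW, hyW, hWle⟩ := exists_isAffineOpen_mem_and_subset
    (show y ∈ b ⁻¹ᵁ X.basicOpen a from hy)
  have e : W ≤ b ⁻¹ᵁ P.1 := fun z hz => X.basicOpen_le a (hWle hz)
  refine ⟨⟨W, hW⟩, e, hyW, ?_⟩
  have hu : IsUnit (b.appLE P.1 W e a) := by
    have h1 : X'.basicOpen (b.appLE P.1 W e a) = W := by
      rw [Scheme.basicOpen_appLE]
      exact inf_eq_left.2 hWle
    have h2 := X'.toRingedSpace.isUnit_res_basicOpen (b.appLE P.1 W e a)
    refine (isUnit_map_iff (X'.presheaf.mapIso (eqToIso h1).op).hom.hom _).1 ?_ |> id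
    exact h2
  have hmem : b.appLE P.1 W e a ∈ (I.comap b).ideal ⟨W, hW⟩ := by
    rw [Lib.Ideal.Comap.ideal_comap b I P ⟨W, hW⟩ e]
    exact Ideal.mem_map_of_mem _ ha
  rw [Ideal.eq_top_of_isUnit_mem _ hmem hu, Ideal.span_singleton_eq_top.2 hu]

variable {I : X.IdealSheafData} {b : X' ⟶ X}

theorem genAt_of_unit_mul (P : X.affineOpens) (a : Γ(X, P.1)) (W : X'.affineOpens)
    (e : W.1 ≤ b ⁻¹ᵁ P.1) {f u : Γ(X', W.1)} (hW : (I.comap b).ideal W = Ideal.span {f})
    (hu : u * f = b.appLE P.1 W.1 e a) {y : X'} (hy : y ∈ X'.basicOpen u) :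
    GenAt I b P a y := by
  let D : X'.affineOpens := ⟨X'.basicOpen u, W.2.basicOpen u⟩
  have hle : D.1 ≤ W.1 := X'.basicOpen_le u
  refine ⟨D, hle.trans e, hy, ?_⟩
  rw [Lib.Ideal.EffCartier.ideal_eq_span_of_le hle hW, ← appLE_res b hle e a, ← hu, map_mul]
  exact (Ideal.span_singleton_mul_left_unit (X'.toRingedSpace.isUnit_res_basicOpen u) _).symm

/-- The ideal `J · E ^ n` descends. -/
theorem exists_descend [CompactSpace X] [QuasiSeparatedSpace X] (hb : BlowUp.IsBlowUp b I) (hI : Lim.IdealExt.IsFG I)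
    (J : X'.IdealSheafData) (hJ : Lim.IdealExt.IsFG J) :
    ∃ (n : ℕ) (L : X.IdealSheafData), Lim.IdealExt.IsFG L ∧ L.comap b = J * (I.comap b) ^ n := by
  classical
  haveI : IsProper b := BlowUpExists.isProper_of_isBlowUp hb hI
  haveI : CompactSpace X' := QuasiCompact.compactSpace_of_compactSpace b
  haveI := Lib.Ideal.BlowUp.isIso_off_center hb
  set E := I.comap b with hE
  let T : ℕ → X.IdealSheafData := fun d => (J * E ^ d).map b
  have hT : ∀ d k, T d * I ^ k ≤ T (d + k) := by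
    intro d k
    rw [Scheme.IdealSheafData.le_map_iff_comap_le, Lib.Ideal.Comap.comap_mul,
      Lib.Ideal.Comap.comap_pow, pow_add, ← mul_assoc]
    exact mul_mono (Scheme.IdealSheafData.comap_map_le _ _) le_rfl
  have hloc : ∀ y : X', ∃ (P : X.affineOpens) (a : Γ(X, P.1)) (W : X'.affineOpens)
      (e : W.1 ≤ b ⁻¹ᵁ P.1), y ∈ W.1 ∧ a ∈ I.ideal P ∧
      E.ideal W = Ideal.span {b.appLE P.1 W.1 e a} ∧
      ∀ z, GenAt I b P a z → z ∈ W.1 := by
    intro y
    obtain ⟨P, hP, hyP, -⟩ :=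
      exists_isAffineOpen_mem_and_subset (show b y ∈ (⊤ : X.Opens) from trivial)
    obtain ⟨a, ha, hga⟩ := exists_genAt_of_span b hb.1 y (U := ⟨P, hP⟩) hyP
      (Ideal.span_eq (I.ideal ⟨P, hP⟩))
    obtain ⟨W, e, hW, hWg⟩ := exists_genOpen hb ⟨P, hP⟩ a ha
    exact ⟨⟨P, hP⟩, a, W, e, hWg y hga, ha, hW, hWg⟩
  choose P a W e hyW ha hW hWg using hloc
  obtain ⟨F, hF⟩ := isCompact_univ.elim_finite_subcover (fun y : X' => ((W y).1 : Set X'))
    (fun y => (W y).1.2) fun y _ => Set.mem_iUnion.2 ⟨y, hyW y⟩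
  -- each local section of `J`, times a power of the generator, comes from the base
  have hsec : ∀ (y : X') (g : Γ(X', (W y).1)), g ∈ J.ideal (W y) →
      ∃ (d : ℕ) (h : Γ(X, (P y).1)), h ∈ (T d).ideal (P y) ∧
        b.appLE (P y).1 (W y).1 (e y) h = b.appLE (P y).1 (W y).1 (e y) (a y) ^ d * g := by
    intro y g hg
    have himg : ∀ s ∈ X.basicOpen (a y), s ∈ I.support.compl ∧ ∃ x ∈ (W y).1, b x = s := by
      intro s hs
      have hsI : s ∈ I.support.compl := fun h =>
        (X.mem_zeroLocus_iff _ _).1 ((Scheme.IdealSheafData.mem_support_iff_of_mem (U := P y)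
          (X.basicOpen_le _ hs)).1 h) _ (ha y) hs
      obtain ⟨z, hz⟩ := (b ∣_ I.support.compl).surjective ⟨s, hsI⟩
      have hzs : b z.1 = s := by simpa using congrArg Subtype.val hz
      exact ⟨hsI, z.1, hWg y _ (genAt_of_mem_basicOpen (P y) (ha y) (hzs.symm ▸ hs)), hzs⟩
    obtain ⟨n, x, hx⟩ := StrictTransform.exists_clear (φ := b) (U := I.support.compl) (P y) (W y)
      (e y) (a y) himg g
    have hcpt : IsCompact ((b ⁻¹ᵁ (P y).1 : X'.Opens) : Set X') := b.isCompact_preimage (P y).2.isCompact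
    have hloc' : ∀ z : (b ⁻¹ᵁ (P y).1 : X'.Opens), ∃ (V : X'.affineOpens) (eV : V.1 ≤ b ⁻¹ᵁ (P y).1)
        (f u : Γ(X', V.1)) (N : ℕ), z.1 ∈ V.1 ∧ E.ideal V = Ideal.span {f} ∧
          u * f = b.appLE (P y).1 V.1 eV (a y) ∧
          u ^ N * b.appLE (P y).1 V.1 eV x ∈ (J * E ^ n).ideal V := by
      intro z
      obtain ⟨V, hzV, hVle, f, -, hf⟩ := Lib.Ideal.EffCartier.exists_gen hb.1 z.1 z.2
      have hmem : b.appLE (P y).1 V.1 hVle (a y) ∈ E.ideal V := by
        rw [hE, Lib.Ideal.Comap.ideal_comap b I (P y) V hVle]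
        exact Ideal.mem_map_of_mem _ (ha y)
      obtain ⟨u, hu⟩ := Ideal.mem_span_singleton'.1 (hf.le hmem)
      let D : X'.affineOpens := ⟨X'.basicOpen u, V.2.basicOpen u⟩
      have hDV : D.1 ≤ V.1 := X'.basicOpen_le u
      have hDW : D.1 ≤ (W y).1 := fun w hw =>
        hWg y w (genAt_of_unit_mul (P y) (a y) V hVle hf hu hw)
      have h1 : X'.presheaf.map (homOfLE hDV).op (b.appLE (P y).1 V.1 hVle x) ∈
          Ideal.map (X'.presheaf.map (homOfLE hDV).op).hom ((J * E ^ n).ideal V) := by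
        have e1 := (J * E ^ n).map_ideal (show D.1 ≤ V.1 from hDV)
        refine e1.ge ?_
        rw [appLE_res b hDV hVle, ← appLE_res b hDW (e y), hx, map_mul, map_pow]
        have hgD : X'.presheaf.map (homOfLE hDW).op g ∈ J.ideal D :=
          (J.map_ideal (show D.1 ≤ (W y).1 from hDW)).le (Ideal.mem_map_of_mem _ hg)
        have haD : X'.presheaf.map (homOfLE hDW).op (b.appLE (P y).1 (W y).1 (e y) (a y)) ∈
            E.ideal D :=
          (E.map_ideal (show D.1 ≤ (W y).1 from hDW)).le (Ideal.mem_map_of_mem _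
            ((hW y).ge (Ideal.mem_span_singleton_self _)))
        rw [Scheme.IdealSheafData.ideal_mul, Pi.mul_apply, Scheme.IdealSheafData.ideal_pow,
          Pi.pow_apply, mul_comm]
        exact Ideal.mul_mem_mul (Ideal.pow_mem_pow haD n) hgD
      obtain ⟨N, hN⟩ := exists_pow_mul_mem V.2 u h1
      exact ⟨V, hVle, f, u, N, hzV, hf, hu, hN⟩
    choose V eV f u N hzV hf hu hN using hloc'
    obtain ⟨G, hG⟩ := hcpt.elim_finite_subcover (fun z => ((V z).1 : Set X'))
      (fun z => (V z).1.2) fun z hz => Set.mem_iUnion.2 ⟨⟨z, hz⟩, hzV ⟨z, hz⟩⟩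
    let M := G.sup N
    refine ⟨n + M, x * a y ^ M, mem_map_of_cover _ (P y) _ fun z hz => ?_, ?_⟩
    · obtain ⟨i, hi, hzi⟩ := Set.mem_iUnion₂.1 (hG hz)
      refine ⟨V i, eV i, hzi, ?_⟩
      rw [map_mul, map_pow, ← hu i, mul_pow, Scheme.IdealSheafData.ideal_mul, Pi.mul_apply,
        pow_add, Scheme.IdealSheafData.ideal_mul, Pi.mul_apply, ← mul_assoc,
        ← mul_assoc (b.appLE (P y).1 (V i).1 (eV i) x)]
      refine Ideal.mul_mem_mul ?_ ?_
      · have hNM : N i ≤ M := Finset.le_sup hi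
        rw [show u i ^ M = u i ^ (M - N i) * u i ^ N i by rw [← pow_add, Nat.sub_add_cancel hNM],
          mul_left_comm]
        have := hN i
        rw [Scheme.IdealSheafData.ideal_mul, Pi.mul_apply, mul_comm (u i ^ N i)] at this
        exact Ideal.mul_mem_left _ _ this
      · rw [Scheme.IdealSheafData.ideal_pow, Pi.pow_apply]
        exact Ideal.pow_mem_pow ((hf i).ge (Ideal.mem_span_singleton_self _)) M
    · rw [map_mul, map_pow, hx, pow_add]; ring
  choose d h hh hhb using hsec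
  choose s hs using fun y : X' => hJ (W y)
  have hsJ : ∀ (y : X') (g : (s y : Finset _)), g.1 ∈ J.ideal (W y) := fun y g =>
    (hs y).le (Ideal.subset_span g.2)
  let n := F.sup fun y => Finset.univ.sup fun g : s y => d y g.1 (hsJ y g)
  have hn : ∀ y ∈ F, ∀ g : s y, d y g.1 (hsJ y g) ≤ n := fun y hy g =>
    (Finset.le_sup (f := fun g : s y => d y g.1 (hsJ y g)) (Finset.mem_univ g)).trans
      (Finset.le_sup (f := fun y => Finset.univ.sup fun g : s y => d y g.1 (hsJ y g)) hy)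
  -- a finitely generated piece
  have hpiece : ∀ y : X', ∃ L : X.IdealSheafData, L ≤ T n ∧ Lim.IdealExt.IsFG L ∧
      (y ∈ F → (J * E ^ n).ideal (W y) ≤ (L.comap b).ideal (W y)) := by
    intro y
    by_cases hy : y ∈ F
    · let k : s y → Γ(X, (P y).1) := fun g => h y g.1 (hsJ y g) * a y ^ (n - d y g.1 (hsJ y g))
      have hk : ∀ g, k g ∈ (T n).ideal (P y) := fun g => by
        have := hT (d y g.1 (hsJ y g)) (n - d y g.1 (hsJ y g)) (P y)
        rw [Nat.add_sub_cancel' (hn y hy g)] at this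
        refine this ?_
        rw [Scheme.IdealSheafData.ideal_mul, Pi.mul_apply, Scheme.IdealSheafData.ideal_pow,
          Pi.pow_apply]
        exact Ideal.mul_mem_mul (hh _ _ _) (Ideal.pow_mem_pow (ha y) _)
      obtain ⟨L, hLle, hLfg, hLk⟩ := Lim.IdealExt.exists_isFG_subset (T n) (P y)
        (Finset.univ.image k) (by
          intro c hc
          simp only [Finset.coe_image, Set.mem_image] at hc
          obtain ⟨g, -, rfl⟩ := hc
          exact hk g)
      refine ⟨L, hLle, hLfg, fun _ => ?_⟩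
      rw [Scheme.IdealSheafData.ideal_mul, Pi.mul_apply, Scheme.IdealSheafData.ideal_pow,
        Pi.pow_apply, hW y, Ideal.span_singleton_pow, ← hs y, Ideal.span_mul_span',
        Ideal.span_le]
      rintro _ ⟨g, hg, _, rfl, rfl⟩
      have hkey : b.appLE (P y).1 (W y).1 (e y) (k ⟨g, hg⟩) =
          g * b.appLE (P y).1 (W y).1 (e y) (a y) ^ n := by
        simp only [k]
        rw [map_mul, map_pow, hhb, mul_right_comm, ← pow_add, Nat.add_sub_cancel' (hn y hy ⟨g, hg⟩),
          mul_comm]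
      show g * b.appLE (P y).1 (W y).1 (e y) (a y) ^ n ∈ (L.comap b).ideal (W y)
      rw [← hkey, Lib.Ideal.Comap.ideal_comap b L (P y) (W y) (e y)]
      refine Ideal.mem_map_of_mem _ (hLk ?_)
      simp only [Finset.coe_image, Set.mem_image]
      exact ⟨⟨g, hg⟩, by simp, rfl⟩
    · exact ⟨⊥, bot_le, Lim.IdealExt.isFG_bot, fun h' => absurd h' hy⟩
  choose L hLT hLfg hLW using hpiece
  refine ⟨n, F.sup L, Finset.sup_induction (p := Lim.IdealExt.IsFG) Lim.IdealExt.isFG_bot
    (fun _ h₁ _ h₂ => Lim.IdealExt.isFG_sup h₁ h₂) (fun y _ => hLfg y), le_antisymm ?_ ?_⟩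
  · exact Scheme.IdealSheafData.le_map_iff_comap_le.1 (Finset.sup_le fun y _ => hLT y)
  · refine Scheme.IdealSheafData.le_of_iSup_eq_top (fun y : F => W y.1) ?_ fun y => ?_
    · refine top_le_iff.1 fun z _ => ?_
      obtain ⟨i, hi, hzi⟩ := Set.mem_iUnion₂.1 (hF (Set.mem_univ z))
      exact Opens.mem_iSup.2 ⟨⟨i, hi⟩, hzi⟩
    · exact (hLW y.1 y.2).trans (Scheme.IdealSheafData.comap_mono (f := b) (Finset.le_sup y.2) _)

theorem isBlowUp_mul_pow_effCartier {X'' : Scheme.{u}} {b' : X'' ⟶ X'} {J D : X'.IdealSheafData}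
    (hD : BlowUp.IsEffCartierIdeal D) (hb' : BlowUp.IsBlowUp b' J) (n : ℕ) :
    BlowUp.IsBlowUp b' (J * D ^ n) :=
  Lib.Ideal.BlowUp.isBlowUp_mul_effCartier (Lib.Ideal.EffCartier.isEffCartier_pow hD n) hb'

/-- The composite of two blow-ups in centres of finite type. -/
theorem exists_comp [CompactSpace X] [QuasiSeparatedSpace X] {X'' : Scheme.{u}} (hb : BlowUp.IsBlowUp b I)
    (hI : Lim.IdealExt.IsFG I) {J : X'.IdealSheafData} (hJ : Lim.IdealExt.IsFG J)
    {b' : X'' ⟶ X'} (hb' : BlowUp.IsBlowUp b' J) :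
    ∃ K : X.IdealSheafData, Lim.IdealExt.IsFG K ∧
      (K.support : Set X) = (I.support : Set X) ∪ (fun x' => b x') '' (J.support : Set X') ∧
      BlowUp.IsBlowUp (b' ≫ b) K := by
  obtain ⟨n, L, hL, hLb⟩ := exists_descend hb hI J hJ
  refine ⟨I * L, Flat55.GenericStrataScheme.isFG_mul hI hL, ?_,
    Lib.Ideal.BlowUp.isBlowUp_comp_mul hb (hLb ▸ isBlowUp_mul_pow_effCartier hb.1 hb' n)⟩
  haveI := Lib.Ideal.BlowUp.isIso_off_center hb
  have hsupp : ∀ x', b x' ∈ L.support ↔ x' ∈ (J * (I.comap b) ^ n).support := by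
    intro x'
    rw [← hLb, Scheme.IdealSheafData.support_comap]
    rfl
  rw [Scheme.IdealSheafData.support_mul, Closeds.coe_sup]
  refine subset_antisymm (Set.union_subset Set.subset_union_left fun x hx => ?_)
    (Set.union_subset Set.subset_union_left ?_)
  · by_cases hxI : x ∈ I.support
    · exact Or.inl hxI
    · obtain ⟨z, hz⟩ := (b ∣_ I.support.compl).surjective ⟨x, hxI⟩
      have hzx : b z.1 = x := by simpa using congrArg Subtype.val hz
      have h1 := (hsupp z.1).1 (hzx.symm ▸ hx)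
      rw [Scheme.IdealSheafData.support_mul] at h1
      rcases h1 with h1 | h1
      · exact Or.inr ⟨z.1, h1, hzx⟩
      · exfalso
        rcases n.eq_zero_or_pos with rfl | hn
        · simp at h1
        · rw [Scheme.IdealSheafData.support_pow _ n hn.ne', Scheme.IdealSheafData.support_comap] at h1
          exact z.2 h1
  · rintro _ ⟨x', hx', rfl⟩
    refine Or.inr ((hsupp x').2 ?_)
    rw [Scheme.IdealSheafData.support_mul]
    exact Or.inl hx'

end Groth.Agent.H22.BlowUpComp
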